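/-
The action with its checks.
-/
import Cfsg.Agent.Lib.Spor.HeInvCent.ActP.Data
import Cfsg.Agent.Lib.Spor.HeInvCent.Rels
import Cfsg.Agent.Lib.Spor.TC.Strict

set_option maxRecDepth 100000
set_option maxHeartbeats 0

namespace CfsgLib.Spor.HeInvCent.ActP

open CfsgLib.Spor.TC

theorem range0 : act.RangeOK relsC 0 317 :=
  Act.RangeOK.of_checkS _ (by decide +kernel)

theorem range317 : act.RangeOK relsC 317 634 :=
  Act.RangeOK.of_checkS _ (by decide +kernel)

theorem range634 : act.RangeOK relsC 634 951 :=
  Act.RangeOK.of_checkS _ (by decide +kernel)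

theorem range951 : act.RangeOK relsC 951 1268 :=
  Act.RangeOK.of_checkS _ (by decide +kernel)

theorem range1268 : act.RangeOK relsC 1268 1585 :=
  Act.RangeOK.of_checkS _ (by decide +kernel)

theorem range1585 : act.RangeOK relsC 1585 1902 :=
  Act.RangeOK.of_checkS _ (by decide +kernel)

theorem range1902 : act.RangeOK relsC 1902 2058 :=
  Act.RangeOK.of_checkS _ (by decide +kernel)

theorem valid : act.Valid relsC :=
  ⟨((((((range0.append _ range317).append _ range634).append _ range951).append _ range1268).append _ range1585).append _ range1902), by decide +kernel, by decide +kernel⟩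

theorem bases_ok : act.levelsOK bases [] = true := by decide +kernel

end CfsgLib.Spor.HeInvCent.ActP
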